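import Mathlib
import Groth.Prelude

/-!
# Flat base change of affine blow-up algebras (helper2)

For a flat ring map `P → B`, an ideal `I` of `P` and `a ∈ P`, the natural map
`P[I/a] ⊗_P B → B[IB/a]` is bijective.  Consequently, if `P → B` is étale, so is `P[I/a] → B[IB/a]`.
-/

set_option autoImplicit false
set_option linter.style.haveILetI false
set_option linter.unusedSectionVars false
universe u

open TensorProduct

namespace Groth.Agent.Lib.Helper2.SmBlow

section BC
variable {P B : Type u} [CommRing P] [CommRing B] [Algebra P B] (I : Ideal P) (a : P)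

local notation "L₁" => Localization.Away a
local notation "L₂" => Localization.Away (algebraMap P B a)
local notation "R₁" => BlowUp.affineAlgebra P I a
local notation "R₂" => BlowUp.affineAlgebra B (I.map (algebraMap P B)) (algebraMap P B a)
set_option quotPrecheck false in
local notation "aM₁" => (⟨a, Submonoid.mem_powers _⟩ : Submonoid.powers a)
set_option quotPrecheck false in
local notation "aM₂" => (⟨algebraMap P B a, Submonoid.mem_powers _⟩ :
  Submonoid.powers (algebraMap P B a))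

lemma isUnit_lm : IsUnit ((Algebra.ofId P L₂) a) := by
  change IsUnit (algebraMap P L₂ a)
  rw [IsScalarTower.algebraMap_apply P B L₂]
  exact IsLocalization.Away.algebraMap_isUnit _

/-- the map of localisations. -/
noncomputable def lm : L₁ →ₐ[P] L₂ :=
  IsLocalization.Away.liftAlgHom a (f := Algebra.ofId P L₂) (isUnit_lm a)

lemma lm_algebraMap (p : P) : lm a (algebraMap P L₁ p) = algebraMap B L₂ (algebraMap P B p) := by
  rw [AlgHom.commutes, IsScalarTower.algebraMap_apply P B L₂]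

lemma lm_mk' (x : P) : lm (B := B) a (IsLocalization.mk' L₁ x aM₁) =
    IsLocalization.mk' L₂ (algebraMap P B x) aM₂ := by
  rw [IsLocalization.eq_mk'_iff_mul_eq]
  change lm a _ * algebraMap B L₂ (algebraMap P B a) = _
  rw [← lm_algebraMap, ← map_mul, ← lm_algebraMap]
  congr 1
  exact IsLocalization.mk'_spec L₁ x aM₁

lemma lm_mem (z : L₁) (hz : z ∈ R₁) : lm (B := B) a z ∈ R₂ := by
  refine Algebra.adjoin_induction (p := fun z _ => lm (B := B) a z ∈ R₂) ?_ ?_ ?_ ?_ hz
  · rintro _ ⟨x, hx, rfl⟩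
    rw [lm_mk']
    exact Algebra.subset_adjoin ⟨algebraMap P B x, Ideal.mem_map_of_mem _ hx, rfl⟩
  · intro p
    rw [lm_algebraMap]
    exact Subalgebra.algebraMap_mem _ _
  · intro x y _ _ hx hy; rw [map_add]; exact Subalgebra.add_mem _ hx hy
  · intro x y _ _ hx hy; rw [map_mul]; exact Subalgebra.mul_mem _ hx hy

/-- the induced map of affine blow-up algebras. -/
noncomputable def χA : R₁ →ₐ[P] R₂ where
  toFun z := ⟨lm (B := B) a z.1, lm_mem I a z.1 z.2⟩
  map_one' := Subtype.ext (map_one (lm (B := B) a))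
  map_mul' x y := Subtype.ext (map_mul (lm (B := B) a) x.1 y.1)
  map_zero' := Subtype.ext (map_zero (lm (B := B) a))
  map_add' x y := Subtype.ext (map_add (lm (B := B) a) x.1 y.1)
  commutes' p := Subtype.ext (by
    change lm (B := B) a (algebraMap P L₁ p) = algebraMap B L₂ (algebraMap P B p)
    exact lm_algebraMap a p)

lemma χA_val (z : R₁) : ((χA (B := B) I a z : R₂) : L₂) = lm a z.1 := rfl

/-- the comparison map. -/
noncomputable def Ψ : R₁ ⊗[P] B →ₐ[P] R₂ :=
  Algebra.TensorProduct.lift (χA I a) (IsScalarTower.toAlgHom P B R₂) (fun _ _ => Commute.all _ _)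

lemma Ψ_tmul (z : R₁) (b : B) : Ψ I a (z ⊗ₜ[P] b) = χA I a z * algebraMap B R₂ b := by
  rw [Ψ, Algebra.TensorProduct.lift_tmul]
  rfl

/-- the comparison map of localisations. -/
noncomputable def Φ : L₁ ⊗[P] B →ₐ[P] L₂ :=
  Algebra.TensorProduct.lift (lm a) (IsScalarTower.toAlgHom P B L₂) (fun _ _ => Commute.all _ _)

lemma Φ_tmul (z : L₁) (b : B) : Φ (B := B) a (z ⊗ₜ[P] b) = lm a z * algebraMap B L₂ b := by
  rw [Φ, Algebra.TensorProduct.lift_tmul]
  rfl

attribute [local instance] Algebra.TensorProduct.rightAlgebra in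
lemma Φ_injective : Function.Injective (Φ (B := B) a) := by
  haveI h1 : IsLocalization (Algebra.algebraMapSubmonoid B (Submonoid.powers a)) (L₁ ⊗[P] B) :=
    inferInstance
  haveI h2 : IsLocalization (Algebra.algebraMapSubmonoid B (Submonoid.powers a)) L₂ := by
    rw [Algebra.algebraMapSubmonoid, Submonoid.map_powers]
    exact (inferInstance : IsLocalization.Away (algebraMap P B a) L₂)
  let e : (L₁ ⊗[P] B) ≃ₐ[B] L₂ :=
    IsLocalization.algEquiv (Algebra.algebraMapSubmonoid B (Submonoid.powers a)) _ _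
  have h : (Φ (B := B) a).toRingHom = e.toAlgHom.toRingHom := by
    refine IsLocalization.ringHom_ext (Algebra.algebraMapSubmonoid B (Submonoid.powers a)) ?_
    ext b
    rw [RingHom.comp_apply, RingHom.comp_apply]
    change Φ a ((1 : L₁) ⊗ₜ[P] b) = e (algebraMap B _ b)
    rw [Φ_tmul, map_one, one_mul, e.commutes]
  intro x y hxy
  have : e x = e y := by
    have hx : Φ (B := B) a x = e x := congr($h x)
    have hy : Φ (B := B) a y = e y := congr($h y)
    rw [← hx, ← hy, hxy]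
  exact e.injective this

lemma Ψ_val (t : R₁ ⊗[P] B) :
    ((Ψ I a t : R₂) : L₂) = Φ a (LinearMap.rTensor B ((Subalgebra.val R₁).toLinearMap.restrictScalars P) t) := by
  induction t using TensorProduct.induction_on with
  | zero => simp
  | tmul z b =>
    rw [Ψ_tmul, LinearMap.rTensor_tmul, Φ_tmul]
    rfl
  | add x y hx hy =>
    rw [map_add, map_add, map_add, ← hx, ← hy]
    rfl

lemma Ψ_injective [Module.Flat P B] : Function.Injective (Ψ (B := B) I a) := by
  intro x y hxy
  have h1 : Φ a (LinearMap.rTensor B ((Subalgebra.val R₁).toLinearMap.restrictScalars P) x) =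
      Φ a (LinearMap.rTensor B ((Subalgebra.val R₁).toLinearMap.restrictScalars P) y) := by
    rw [← Ψ_val, ← Ψ_val, hxy]
  have h2 := Φ_injective a h1
  refine Module.Flat.rTensor_preserves_injective_linearMap (M := B)
    ((Subalgebra.val R₁).toLinearMap.restrictScalars P) ?_ h2
  exact Subtype.val_injective

/-- the comparison map followed by the inclusion, as a ring hom. -/
noncomputable def vΨ : R₁ ⊗[P] B →+* L₂ :=
  (Subalgebra.val R₂).toRingHom.comp (Ψ (B := B) I a).toRingHom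

lemma vΨ_apply (t : R₁ ⊗[P] B) : vΨ I a t = ((Ψ I a t : R₂) : L₂) := rfl

lemma vΨ_tmul (z : R₁) (b : B) : vΨ I a (z ⊗ₜ[P] b) = lm a z.1 * algebraMap B L₂ b := by
  rw [vΨ_apply, Ψ_tmul]
  rfl

lemma Ψ_surjective : Function.Surjective (Ψ (B := B) I a) := by
  have key : ∀ y ∈ I.map (algebraMap P B), ∃ t, vΨ I a t = algebraMap B L₂ y *
      IsLocalization.mk' L₂ (1 : B) aM₂ := by
    intro y hy
    refine Submodule.span_induction (p := fun y _ => ∃ t, vΨ I a t = algebraMap B L₂ y *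
      IsLocalization.mk' L₂ (1 : B) aM₂) ?_ ?_ ?_ ?_ hy
    · rintro _ ⟨x, hx, rfl⟩
      have hx' : IsLocalization.mk' L₁ x aM₁ ∈ R₁ := Algebra.subset_adjoin ⟨x, hx, rfl⟩
      refine ⟨(⟨_, hx'⟩ : R₁) ⊗ₜ[P] (1 : B), ?_⟩
      rw [vΨ_tmul, map_one, mul_one, lm_mk', IsLocalization.mk'_eq_mul_mk'_one]
    · exact ⟨0, by rw [map_zero, map_zero, zero_mul]⟩
    · rintro x y _ _ ⟨t₁, h₁⟩ ⟨t₂, h₂⟩
      exact ⟨t₁ + t₂, by rw [map_add, h₁, h₂, map_add, add_mul]⟩
    · rintro c x _ ⟨t, ht⟩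
      refine ⟨((1 : R₁) ⊗ₜ[P] c) * t, ?_⟩
      rw [map_mul, vΨ_tmul, ht, smul_eq_mul, map_mul]
      have : lm (B := B) a ((1 : R₁) : L₁) = 1 := map_one _
      rw [this, one_mul, mul_assoc]
  have main : ∀ z ∈ R₂, ∃ t, vΨ I a t = z := by
    intro z hz
    refine Algebra.adjoin_induction (p := fun z _ => ∃ t, vΨ I a t = z) ?_ ?_ ?_ ?_ hz
    · rintro _ ⟨y, hy, rfl⟩
      obtain ⟨t, ht⟩ := key y hy
      exact ⟨t, by rw [ht, ← IsLocalization.mk'_eq_mul_mk'_one]⟩
    · intro b
      refine ⟨(1 : R₁) ⊗ₜ[P] b, ?_⟩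
      rw [vΨ_tmul]
      have : lm (B := B) a ((1 : R₁) : L₁) = 1 := map_one _
      rw [this, one_mul]
    · rintro x y _ _ ⟨t₁, h₁⟩ ⟨t₂, h₂⟩
      exact ⟨t₁ + t₂, by rw [map_add, h₁, h₂]⟩
    · rintro x y _ _ ⟨t₁, h₁⟩ ⟨t₂, h₂⟩
      exact ⟨t₁ * t₂, by rw [map_mul, h₁, h₂]⟩
  intro z
  obtain ⟨t, ht⟩ := main z.1 z.2
  exact ⟨t, Subtype.ext ht⟩

theorem exists_etale_chartMap [Algebra.Etale P B] :
    ∃ χ : R₁ →+* R₂, χ.Etale ∧
      χ.comp (algebraMap P R₁) = (algebraMap B R₂).comp (algebraMap P B) := by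
  refine ⟨(χA (B := B) I a).toRingHom, ?_, ?_⟩
  · have h1 : (χA (B := B) I a).toRingHom =
        (Ψ (B := B) I a).toRingHom.comp (algebraMap R₁ (R₁ ⊗[P] B)) := by
      refine RingHom.ext fun z => ?_
      change χA I a z = Ψ I a (z ⊗ₜ[P] (1 : B))
      rw [Ψ_tmul, map_one, mul_one]
    rw [h1]
    have e0 : Algebra.Etale R₁ (R₁ ⊗[P] B) := inferInstance
    have e1 : @RingHom.Etale (↥R₁) (↥R₁ ⊗[P] B) _ _ (algebraMap (↥R₁) (↥R₁ ⊗[P] B)) := by
      rw [RingHom.etale_algebraMap]
      exact e0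
    have hb : Function.Bijective (Ψ (B := B) I a).toRingHom := ⟨Ψ_injective I a, Ψ_surjective I a⟩
    have e2 : @RingHom.Etale (↥R₁ ⊗[P] B) (↥R₂) _ _ (Ψ (B := B) I a).toRingHom :=
      RingHom.Etale.of_bijective hb
    exact RingHom.Etale.stableUnderComposition _ _ e1 e2
  · refine RingHom.ext fun p => Subtype.ext ?_
    change lm a (algebraMap P L₁ p) = algebraMap B L₂ (algebraMap P B p)
    exact lm_algebraMap a p

end BC

end Groth.Agent.Lib.Helper2.SmBlow
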