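import Groth.Agent.Lib.Helper2.SmBlow.Poly
import Groth.Agent.Lib.Helper2.SmBlow.BC
import Groth.Agent.Lib.Helper8.SmoothChartRing

/-!
# Charts of the blow-up of a smooth pair are smooth: ring level (helper2)
-/

set_option autoImplicit false
set_option linter.style.haveILetI false
set_option linter.unusedSectionVars false
universe u

open TensorProduct

namespace Groth.Agent.Lib.Helper2.SmBlow

theorem smooth_congr {A₀ B' : Type u} [CommRing A₀] [CommRing B'] (J₁ J₂ : Ideal B') (a₁ a₂ : B')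
    (hJ : J₁ = J₂) (ha : a₁ = a₂) (θ : A₀ →+* B')
    (h : ((algebraMap B' ↥(BlowUp.affineAlgebra B' J₁ a₁)).comp θ).Smooth) :
    ((algebraMap B' ↥(BlowUp.affineAlgebra B' J₂ a₂)).comp θ).Smooth := by
  subst hJ; subst ha; exact h

/-- `B`, `C = B/ker ψ` smooth over `A₀`: around any prime of `C` there is `f ∈ B` such that on every
localisation `B'` of `B` away from `f`, the ideal `ker ψ · B'` has generators `g` all of whose
affine blow-up algebras `B'[J'/g_i]` are smooth over `A₀`. -/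
theorem smooth_chart_of_smooth_pair {A₀ B C : Type u} [CommRing A₀] [CommRing B] [CommRing C]
    (α : A₀ →+* B) (hα : α.Smooth) (ψ : B →+* C) (hψ : Function.Surjective ψ)
    (hψα : (ψ.comp α).Smooth) (Q' : Ideal C) [Q'.IsPrime] :
    ∃ f : B, ψ f ∉ Q' ∧ ∀ (B' : Type u) [CommRing B'] (ρ : B →+* B'),
      (letI := ρ.toAlgebra; IsLocalization.Away f B') →
      ∀ J' : Ideal B', J' = (RingHom.ker ψ).map ρ →
      ∃ (n : ℕ) (g : Fin n → B'), J' = Ideal.span (Set.range g) ∧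
        ∀ i₀ : Fin n,
          ((algebraMap B' ↥(BlowUp.affineAlgebra B' J' (g i₀))).comp (ρ.comp α)).Smooth := by
  letI : Algebra A₀ B := α.toAlgebra
  letI : Algebra A₀ C := (ψ.comp α).toAlgebra
  haveI : Algebra.Smooth A₀ B := hα
  haveI : Algebra.Smooth A₀ C := hψα
  let ψA : B →ₐ[A₀] C := { ψ with commutes' := fun r => rfl }
  obtain ⟨n, g, hg, f, hf, m, H⟩ :=
    Groth.Agent.Lib.Helper8.SmoothChartRing.exists_chart_of_surjective A₀ B C ψA hψ Q'
  refine ⟨f, hf, ?_⟩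
  intro B' _ ρ hloc J' hJ'
  letI : Algebra B B' := ρ.toAlgebra
  letI : Algebra A₀ B' := (ρ.comp α).toAlgebra
  haveI : IsScalarTower A₀ B B' := IsScalarTower.of_algebraMap_eq (fun _ => rfl)
  haveI : IsLocalization.Away f B' := hloc
  obtain ⟨g', hét, hker⟩ := H B'
  let G : Fin n → B' := fun b => ρ (g b)
  have hJG : J' = Ideal.span (Set.range G) := by
    rw [hJ']
    apply le_antisymm
    · rw [Ideal.map_le_iff_le_comap]
      intro x hx
      exact hker x hx
    · rw [Ideal.span_le]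
      rintro _ ⟨b, rfl⟩
      exact Ideal.mem_map_of_mem _ (hg b)
  refine ⟨n, G, hJG, fun i₀ => ?_⟩
  let F : MvPolynomial (ULift.{u} (Fin m ⊕ Fin n)) A₀ →ₐ[A₀] B' :=
    MvPolynomial.aeval (fun j : ULift.{u} (Fin m ⊕ Fin n) =>
      Sum.elim g' (fun b => algebraMap B B' (g b)) j.down)
  have hF : F.toRingHom.Etale := hét
  let s : Set (ULift.{u} (Fin m ⊕ Fin n)) := Set.range (fun b : Fin n => ULift.up (Sum.inr b))
  let j₀ : ULift.{u} (Fin m ⊕ Fin n) := ULift.up (Sum.inr i₀)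
  have hj₀ : j₀ ∈ s := ⟨i₀, rfl⟩
  have hFX : ∀ b : Fin n, F (MvPolynomial.X (ULift.up (Sum.inr b))) = G b := by
    intro b
    change MvPolynomial.aeval _ _ = _
    rw [MvPolynomial.aeval_X]
    rfl
  have hFI : (II (R := A₀) s).map F.toRingHom = Ideal.span (Set.range G) := by
    rw [II, Ideal.map_span]
    congr 1
    ext z
    constructor
    · rintro ⟨_, ⟨_, ⟨b, rfl⟩, rfl⟩, rfl⟩
      exact ⟨b, (hFX b).symm⟩
    · rintro ⟨b, rfl⟩
      exact ⟨_, ⟨_, ⟨b, rfl⟩, rfl⟩, hFX b⟩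
  letI : Algebra (MvPolynomial (ULift.{u} (Fin m ⊕ Fin n)) A₀) B' := F.toRingHom.toAlgebra
  haveI : Algebra.Etale (MvPolynomial (ULift.{u} (Fin m ⊕ Fin n)) A₀) B' := hF
  obtain ⟨χ, hχ, hχc⟩ := exists_etale_chartMap (B := B') (II (R := A₀) s)
    (MvPolynomial.X j₀ : MvPolynomial (ULift.{u} (Fin m ⊕ Fin n)) A₀)
  have h1 := smooth_chart_poly (R := A₀) s j₀ hj₀
  have h2 := RingHom.Smooth.comp h1 ((RingHom.etale_iff_formallyUnramified_and_smooth _).1 hχ).2
  have h3 : χ.comp ((algebraMap (MvPolynomial (ULift.{u} (Fin m ⊕ Fin n)) A₀) _).comp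
      (MvPolynomial.C : A₀ →+* MvPolynomial (ULift.{u} (Fin m ⊕ Fin n)) A₀)) =
      (algebraMap B' ↥(BlowUp.affineAlgebra B' ((II (R := A₀) s).map F.toRingHom)
        (F (MvPolynomial.X j₀)))).comp (ρ.comp α) := by
    rw [← RingHom.comp_assoc, hχc, RingHom.comp_assoc]
    congr 1
    refine RingHom.ext fun r => ?_
    exact F.commutes r
  rw [h3] at h2
  exact smooth_congr _ _ _ _ (hFI.trans hJG.symm) (hFX i₀) _ h2

end Groth.Agent.Lib.Helper2.SmBlow
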