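import Mathlib
import Groth.Prelude

/-!
# The affine blow-up algebra of a polynomial ring in a coordinate subspace (helper2)

For `P = R[X_j : j ∈ σ]`, `I = (X_j : j ∈ s)` and `i₀ ∈ s`, the affine blow-up algebra `P[I/X_{i₀}]`
is again a polynomial ring over `R` (on the generators `X_{i₀}`, `X_j/X_{i₀}` for `j ∈ s ∖ {i₀}` and
`X_j` for `j ∉ s`); in particular it is smooth over `R` when `σ` is finite.
-/

set_option autoImplicit false
set_option linter.style.haveILetI false
set_option linter.unusedSectionVars false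
universe u

open MvPolynomial

namespace Groth.Agent.Lib.Helper2.SmBlow

section Poly
variable {R : Type u} [CommRing R] {σ : Type u} (s : Set σ) (i₀ : σ)

/-- the centre: the ideal generated by the coordinates in `s`. -/
noncomputable def II : Ideal (MvPolynomial σ R) := Ideal.span ((X : σ → MvPolynomial σ R) '' s)

local notation "L" => Localization.Away (X i₀ : MvPolynomial σ R)
set_option quotPrecheck false in
local notation "aM" => (⟨X i₀, Submonoid.mem_powers _⟩ : Submonoid.powers (X i₀ : MvPolynomial σ R))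

open Classical in
/-- the parametrisation of the chart. -/
noncomputable def τ : MvPolynomial σ R →ₐ[R] L :=
  aeval (fun j => if j ∈ s ∧ j ≠ i₀ then IsLocalization.mk' L (X j : MvPolynomial σ R) aM
    else algebraMap (MvPolynomial σ R) L (X j))

open Classical in
/-- the substitution `X_j ↦ X_{i₀} X_j` for `j ∈ s ∖ {i₀}`. -/
noncomputable def σs : MvPolynomial σ R →ₐ[R] MvPolynomial σ R :=
  aeval (fun j => if j ∈ s ∧ j ≠ i₀ then (X i₀ * X j : MvPolynomial σ R) else X j)

lemma σs_a : σs (R := R) s i₀ (X i₀) = X i₀ := by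
  classical
  rw [σs, aeval_X, if_neg]
  rintro ⟨-, h⟩
  exact h rfl

lemma τ_σs (p : MvPolynomial σ R) : τ s i₀ (σs s i₀ p) = algebraMap (MvPolynomial σ R) L p := by
  classical
  have h : (τ (R := R) s i₀).comp (σs s i₀) = IsScalarTower.toAlgHom R (MvPolynomial σ R) L := by
    apply MvPolynomial.algHom_ext
    intro j
    rw [AlgHom.comp_apply, σs, aeval_X]
    by_cases hj : j ∈ s ∧ j ≠ i₀
    · rw [if_pos hj, map_mul, τ, aeval_X, aeval_X, if_pos hj, if_neg (by rintro ⟨-, h⟩; exact h rfl)]
      exact IsLocalization.mk'_spec' L (X j : MvPolynomial σ R) aM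
    · rw [if_neg hj, τ, aeval_X, if_neg hj]
      rfl
  exact congr($h p)

lemma isUnit_a : IsUnit (((algebraMap (MvPolynomial σ R) L).comp (σs s i₀).toRingHom)
    (X i₀ : MvPolynomial σ R)) := by
  rw [RingHom.comp_apply]
  change IsUnit (algebraMap (MvPolynomial σ R) L (σs s i₀ (X i₀)))
  rw [σs_a]
  exact IsLocalization.Away.algebraMap_isUnit _

/-- the retraction used to see that `τ` is injective. -/
noncomputable def ρr : L →+* L :=
  IsLocalization.Away.lift (X i₀ : MvPolynomial σ R) (isUnit_a s i₀)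

lemma ρr_algebraMap (p : MvPolynomial σ R) :
    ρr s i₀ (algebraMap (MvPolynomial σ R) L p) = algebraMap (MvPolynomial σ R) L (σs s i₀ p) := by
  rw [ρr, IsLocalization.Away.lift_eq]
  rfl

lemma ρr_τ (p : MvPolynomial σ R) : ρr s i₀ (τ s i₀ p) = algebraMap (MvPolynomial σ R) L p := by
  classical
  have h : (ρr (R := R) s i₀).comp (τ s i₀).toRingHom = algebraMap (MvPolynomial σ R) L := by
    apply MvPolynomial.ringHom_ext
    · intro r
      rw [RingHom.comp_apply]
      change ρr s i₀ (τ s i₀ (C r)) = _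
      have : τ (R := R) s i₀ (C r) = algebraMap (MvPolynomial σ R) L (C r) := by
        rw [τ, aeval_C]
        rfl
      rw [this, ρr_algebraMap, σs, aeval_C]
      rfl
    · intro j
      rw [RingHom.comp_apply]
      change ρr s i₀ (τ s i₀ (X j)) = _
      rw [τ, aeval_X]
      by_cases hj : j ∈ s ∧ j ≠ i₀
      · rw [if_pos hj]
        have h1 : IsLocalization.mk' L (X j : MvPolynomial σ R) aM *
            algebraMap (MvPolynomial σ R) L (X i₀) = algebraMap (MvPolynomial σ R) L (X j) :=
          IsLocalization.mk'_spec L (X j : MvPolynomial σ R) aM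
        have h2 := congrArg (ρr s i₀) h1
        rw [map_mul, ρr_algebraMap, ρr_algebraMap, σs_a, σs, aeval_X, if_pos hj, map_mul,
          mul_comm] at h2
        exact (IsLocalization.Away.algebraMap_isUnit (X i₀ : MvPolynomial σ R)).mul_left_cancel h2
      · rw [if_neg hj, ρr_algebraMap, σs, aeval_X, if_neg hj]
  exact congr($h p)

lemma τ_injective : Function.Injective (τ (R := R) s i₀) := by
  intro p p' h
  have h1 := congrArg (ρr s i₀) h
  rw [ρr_τ, ρr_τ] at h1
  refine IsLocalization.injective L (M := Submonoid.powers (X i₀ : MvPolynomial σ R)) ?_ h1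
  rw [Submonoid.powers_le]
  exact (isRegular_X (R := R) (n := i₀)).mem_nonZeroDivisors

lemma τ_mem (p : MvPolynomial σ R) :
    τ s i₀ p ∈ BlowUp.affineAlgebra (MvPolynomial σ R) (II s) (X i₀) := by
  classical
  induction p using MvPolynomial.induction_on with
  | C r =>
    have : τ (R := R) s i₀ (C r) = algebraMap (MvPolynomial σ R) L (C r) := by
      rw [τ, aeval_C]
      rfl
    rw [this]
    exact Subalgebra.algebraMap_mem _ _
  | add p q hp hq => rw [map_add]; exact Subalgebra.add_mem _ hp hq
  | mul_X p j hp =>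
    rw [map_mul]
    refine Subalgebra.mul_mem _ hp ?_
    rw [τ, aeval_X]
    by_cases hj : j ∈ s ∧ j ≠ i₀
    · rw [if_pos hj]
      exact Algebra.subset_adjoin ⟨X j, Ideal.subset_span ⟨j, hj.1, rfl⟩, rfl⟩
    · rw [if_neg hj]
      exact Subalgebra.algebraMap_mem _ _

lemma mem_range_τ (hi₀ : i₀ ∈ s) (z : L)
    (hz : z ∈ BlowUp.affineAlgebra (MvPolynomial σ R) (II s) (X i₀)) :
    z ∈ (τ (R := R) s i₀).range := by
  classical
  have hgen : ∀ x ∈ II (R := R) s, IsLocalization.mk' L x aM ∈ (τ (R := R) s i₀).range := by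
    intro x hx
    rw [IsLocalization.mk'_eq_mul_mk'_one]
    have key : ∀ x ∈ II (R := R) s, algebraMap (MvPolynomial σ R) L x *
        IsLocalization.mk' L (1 : MvPolynomial σ R) aM ∈ (τ (R := R) s i₀).range := by
      intro x hx
      refine Submodule.span_induction (p := fun x _ => algebraMap (MvPolynomial σ R) L x *
        IsLocalization.mk' L (1 : MvPolynomial σ R) aM ∈ (τ (R := R) s i₀).range) ?_ ?_ ?_ ?_ hx
      · rintro _ ⟨j, hj, rfl⟩
        rw [← IsLocalization.mk'_eq_mul_mk'_one]
        by_cases hji : j = i₀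
        · subst hji
          have : IsLocalization.mk' (Localization.Away (X j : MvPolynomial σ R))
              (X j : MvPolynomial σ R) (⟨X j, Submonoid.mem_powers _⟩ :
                Submonoid.powers (X j : MvPolynomial σ R)) = 1 :=
            IsLocalization.mk'_self' _ (x := (⟨X j, Submonoid.mem_powers _⟩ :
                Submonoid.powers (X j : MvPolynomial σ R)))
          rw [this]
          exact Subalgebra.one_mem _
        · refine ⟨X j, ?_⟩
          change τ s i₀ (X j) = _
          rw [τ, aeval_X, if_pos ⟨hj, hji⟩]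
      · rw [map_zero, zero_mul]; exact Subalgebra.zero_mem _
      · intro x y _ _ hx hy
        rw [map_add, add_mul]; exact Subalgebra.add_mem _ hx hy
      · intro c x _ hx
        rw [smul_eq_mul, map_mul, mul_assoc]
        exact Subalgebra.mul_mem _ ⟨σs s i₀ c, τ_σs s i₀ c⟩ hx
    exact key x hx
  refine Algebra.adjoin_induction (p := fun z _ => z ∈ (τ (R := R) s i₀).range) ?_ ?_ ?_ ?_ hz
  · rintro _ ⟨x, hx, rfl⟩
    exact hgen x hx
  · intro p
    exact ⟨σs s i₀ p, τ_σs s i₀ p⟩
  · intro x y _ _ hx hy; exact Subalgebra.add_mem _ hx hy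
  · intro x y _ _ hx hy; exact Subalgebra.mul_mem _ hx hy

/-- the chart is a polynomial ring. -/
noncomputable def chartEquiv (hi₀ : i₀ ∈ s) :
    MvPolynomial σ R ≃+* ↥(BlowUp.affineAlgebra (MvPolynomial σ R) (II s) (X i₀)) :=
  RingEquiv.ofBijective
    ((τ (R := R) s i₀).toRingHom.codRestrict
      (BlowUp.affineAlgebra (MvPolynomial σ R) (II s) (X i₀)).toSubring (fun p => τ_mem s i₀ p))
    ⟨fun p p' h => τ_injective s i₀ (congrArg Subtype.val h), fun z => by
      obtain ⟨p, hp⟩ := mem_range_τ s i₀ hi₀ z.1 z.2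
      exact ⟨p, Subtype.ext hp⟩⟩

theorem smooth_chart_poly [Finite σ] (hi₀ : i₀ ∈ s) :
    ((algebraMap (MvPolynomial σ R)
      ↥(BlowUp.affineAlgebra (MvPolynomial σ R) (II s) (X i₀))).comp
        (C : R →+* MvPolynomial σ R)).Smooth := by
  have h1 : (algebraMap (MvPolynomial σ R)
      ↥(BlowUp.affineAlgebra (MvPolynomial σ R) (II s) (X i₀))).comp (C : R →+* MvPolynomial σ R) =
      (chartEquiv (R := R) s i₀ hi₀).toRingHom.comp (C : R →+* MvPolynomial σ R) := by
    ext r
    change algebraMap (MvPolynomial σ R) L (C r) = τ s i₀ (C r)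
    rw [τ, aeval_C]
    rfl
  rw [h1]
  refine RingHom.Smooth.comp ?_ (RingHom.Smooth.of_bijective (chartEquiv (R := R) s i₀ hi₀).bijective)
  have : Algebra.Smooth R (MvPolynomial σ R) := ⟨inferInstance, inferInstance⟩
  exact RingHom.smooth_algebraMap.2 this

end Poly

end Groth.Agent.Lib.Helper2.SmBlow
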