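import Groth.Agent.Lib.Helper2.SmBlow.Core
import Groth.Agent.Lib.Helper2.ExcSm.Sch
import Groth.Agent.Lib.Helper3.BlowUpBasic
import Groth.Agent.Lib.Helper22.CIMorSynt
import Groth.Agent.S1677
import Groth.Agent.S9699

/-!
# The blow-up of a smooth pair is smooth: scheme level (helper2)
-/

set_option autoImplicit false
set_option linter.style.haveILetI false
set_option linter.unusedSectionVars false
universe u

open CategoryTheory CategoryTheory.Limits AlgebraicGeometry Opposite TopologicalSpace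

namespace Groth.Agent.Lib.Helper2.SmBlow

/-- around every point of the blow-up there is an open on which the blow-up is smooth over `S`. -/
theorem exists_smooth_nhd {Z X X' S : Scheme.{u}} (q : X ⟶ S) [Smooth q] (i : Z ⟶ X)
    [IsClosedImmersion i] [Smooth (i ≫ q)] (b : X' ⟶ X) (hb : BlowUp.IsBlowUp b i.ker) (x' : X') :
    ∃ W : X'.Opens, x' ∈ W ∧ Smooth (W.ι ≫ b ≫ q) := by
  by_cases hx : b x' ∈ i.ker.support
  swap
  · haveI hiso := Groth.Agent.Lib.Helper3.isIso_morphismRestrict_of_isBlowUp i.ker b hb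
    refine ⟨b ⁻¹ᵁ i.ker.support.compl, hx, ?_⟩
    rw [← Category.assoc, ← morphismRestrict_ι, Category.assoc]
    infer_instance
  · -- the point of `Z`
    have hz : b x' ∈ Set.range i := by
      have h1 : (i.ker.support : Set X) = Set.range i := by
        rw [Scheme.Hom.support_ker]
        exact i.isClosedEmbedding.isClosed_range.closure_eq
      rw [← h1]; exact hx
    obtain ⟨z, hz⟩ := hz
    -- affine opens
    obtain ⟨W₀, hW₀, hqW₀, -⟩ := Opens.isBasis_iff_nbhd.mp S.isBasis_affineOpens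
      (show q (b x') ∈ (⊤ : S.Opens) from trivial)
    obtain ⟨V, hV, hxV, hVle⟩ := Opens.isBasis_iff_nbhd.mp X.isBasis_affineOpens
      (show b x' ∈ q ⁻¹ᵁ W₀ from hqW₀)
    have hW₀' : IsAffineOpen W₀ := hW₀
    have hV' : IsAffineOpen V := hV
    have e : V ≤ q ⁻¹ᵁ W₀ := hVle
    have hZV : IsAffineOpen (i ⁻¹ᵁ V) := hV'.preimage i
    have hzV : z ∈ i ⁻¹ᵁ V := by
      show i z ∈ V
      rw [hz]; exact hxV
    have hα : (q.appLE W₀ V e).hom.Smooth :=
      HasRingHomProperty.appLE (P := @Smooth) q inferInstance ⟨W₀, hW₀'⟩ ⟨V, hV'⟩ e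
    have e' : i ⁻¹ᵁ V ≤ (i ≫ q) ⁻¹ᵁ W₀ := i.preimage_mono e
    have hψα' : ((i ≫ q).appLE W₀ (i ⁻¹ᵁ V) e').hom.Smooth :=
      HasRingHomProperty.appLE (P := @Smooth) (i ≫ q) inferInstance ⟨W₀, hW₀'⟩ ⟨_, hZV⟩ e'
    have hcomp : (i ≫ q).appLE W₀ (i ⁻¹ᵁ V) e' = q.appLE W₀ V e ≫ i.app V := by
      rw [Scheme.Hom.app_eq_appLE, Scheme.Hom.appLE_comp_appLE]
    have hψα : ((i.app V).hom.comp (q.appLE W₀ V e).hom).Smooth := by
      have : (i.app V).hom.comp (q.appLE W₀ V e).hom =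
          ((i ≫ q).appLE W₀ (i ⁻¹ᵁ V) e').hom := by
        rw [hcomp]; rfl
      rw [this]; exact hψα'
    let Q' : Ideal Γ(Z, i ⁻¹ᵁ V) :=
      (IsLocalRing.maximalIdeal (Z.presheaf.stalk z)).comap (Z.presheaf.germ (i ⁻¹ᵁ V) z hzV).hom
    haveI : Q'.IsPrime := Ideal.comap_isPrime _ _
    obtain ⟨f, hf, H⟩ := smooth_chart_of_smooth_pair (q.appLE W₀ V e).hom hα (i.app V).hom
      (i.app_surjective V hV') hψα Q'
    -- the basic open
    have hzf : z ∈ Z.basicOpen ((i.app V).hom f) := by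
      rw [Scheme.mem_basicOpen _ _ _ hzV]
      by_contra hnu
      exact hf ((IsLocalRing.mem_maximalIdeal _).2 hnu)
    have hxf : b x' ∈ X.basicOpen f := by
      have h1 : i ⁻¹ᵁ X.basicOpen f = Z.basicOpen ((i.app V).hom f) :=
        Scheme.preimage_basicOpen i f
      have h2 : z ∈ i ⁻¹ᵁ X.basicOpen f := by rw [h1]; exact hzf
      rw [← hz]; exact h2
    have hJ' : i.ker.ideal (X.affineBasicOpen (U := ⟨V, hV'⟩) f) =
        (RingHom.ker (i.app V).hom).map
          (X.presheaf.map (homOfLE (X.basicOpen_le f)).op).hom := by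
      rw [← i.ker.map_ideal_basicOpen ⟨V, hV'⟩ f, i.ker_apply ⟨V, hV'⟩]
    obtain ⟨n, G, hJG, hsm⟩ := H Γ(X, X.basicOpen f)
      (X.presheaf.map (homOfLE (X.basicOpen_le f)).op).hom
      (hV'.isLocalization_basicOpen f) _ hJ'
    have hVf : IsAffineOpen (X.basicOpen f) := hV'.basicOpen f
    obtain ⟨j, ζ, hζi, hxζ, hζ⟩ := Groth.Agent.Lib.Helper2.ExcSm.exists_chart_gens i.ker b hb
      (X.basicOpen f) hVf G hJG x' hxf
    haveI := hζi
    refine ⟨ζ.opensRange, hxζ, ?_⟩
    have ef : X.basicOpen f ≤ q ⁻¹ᵁ W₀ := (X.basicOpen_le f).trans e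
    -- the composite `ζ ≫ b ≫ q`
    have hfac : ζ ≫ b ≫ q = Spec.map (q.appLE W₀ (X.basicOpen f) ef ≫
        CommRingCat.ofHom (algebraMap Γ(X, X.basicOpen f)
          (BlowUp.affineAlgebra Γ(X, X.basicOpen f)
            (i.ker.ideal ⟨X.basicOpen f, hVf⟩) (G j)))) ≫ hW₀'.fromSpec := by
      rw [← Category.assoc, hζ, Category.assoc,
        ← IsAffineOpen.SpecMap_appLE_fromSpec q hW₀' hVf ef, Spec.map_comp, Category.assoc]
    have hsmζ : Smooth (ζ ≫ b ≫ q) := by
      rw [hfac]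
      have h1 : Smooth (Spec.map (q.appLE W₀ (X.basicOpen f) ef ≫
        CommRingCat.ofHom (algebraMap Γ(X, X.basicOpen f)
          (BlowUp.affineAlgebra Γ(X, X.basicOpen f)
            (i.ker.ideal ⟨X.basicOpen f, hVf⟩) (G j))))) := by
        rw [HasRingHomProperty.Spec_iff (P := @Smooth)]
        have h2 : q.appLE W₀ (X.basicOpen f) ef =
            q.appLE W₀ V e ≫ X.presheaf.map (homOfLE (X.basicOpen_le f)).op :=
          (Scheme.Hom.appLE_map q e (homOfLE (X.basicOpen_le f)).op).symm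
        rw [h2]
        exact hsm j
      infer_instance
    have hι : ζ.opensRange.ι = (IsOpenImmersion.isoOfRangeEq ζ.opensRange.ι ζ
        (by rw [Scheme.Opens.range_ι]; rfl)).hom ≫ ζ :=
      (IsOpenImmersion.isoOfRangeEq_hom_fac _ _ _).symm
    rw [hι, Category.assoc]
    infer_instance

theorem main {Z X X' S : Scheme.{u}} (q : X ⟶ S) [Smooth q] (i : Z ⟶ X) [IsClosedImmersion i]
    [Smooth (i ≫ q)] (b : X' ⟶ X) (hb : BlowUp.IsBlowUp b i.ker) :
    Smooth (b ≫ q) ∧ Smooth ((BlowUp.exceptional b i.ker).subschemeι ≫ b ≫ q) := by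
  constructor
  · choose W hW hsm using exists_smooth_nhd q i b hb
    refine IsZariskiLocalAtSource.of_iSup_eq_top (P := @Smooth) W ?_ hsm
    exact eq_top_iff.2 fun x _ => Opens.mem_iSup.2 ⟨x, hW x⟩
  · have hreg : Mor2.IsRegularClosedImmersion i := by
      apply Groth.Agent.S1677.result q i
      rw [Groth.Agent.Lib.Helper22.CIMorSynt.isCIMorphism_iff_isSyntomicMor]
      exact Groth.Agent.S9699.result (i ≫ q)
    have hle : i.ker ≤ ((i.ker.comap b).subschemeι ≫ b).ker := by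
      have h1 : ((i.ker.comap b).subschemeι ≫ b).ker = (i.ker.comap b).map b := rfl
      rw [h1]
      exact Scheme.IdealSheafData.le_map_comap _ _
    let g : (i.ker.comap b).subscheme ⟶ Z := IsClosedImmersion.lift i _ hle
    have hg : g ≫ i = (i.ker.comap b).subschemeι ≫ b := IsClosedImmersion.lift_fac i _ hle
    haveI : Smooth g := Groth.Agent.Lib.Helper2.ExcSm.main i hreg b hb _ rfl g hg
    have : (BlowUp.exceptional b i.ker).subschemeι ≫ b ≫ q = g ≫ i ≫ q := by
      rw [← Category.assoc, ← Category.assoc, hg]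
    rw [this]
    infer_instance

end Groth.Agent.Lib.Helper2.SmBlow
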